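import Groth.Agent.BDiagSmLib.Tors
import Groth.Agent.QuotTransLib.FppfDiag
import Groth.Agent.QuotTransLib.Stack
import Groth.Agent.QuotStLib.MapRep
import Groth.Agent.AlgStLib.Rows5
import Groth.Agent.AlgStLib.LocQ5
import Groth.Agent.AlgStLib.PointsQc
import Groth.Agent.AlgStLib.PointsTop
import Groth.Agent.WellNighLib.Basic

/-!
# Classifying stacks of finite diagonalisable groups are smooth
-/

set_option autoImplicit false
set_option linter.all false
set_option backward.isDefEq.respectTransparency false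
set_option backward.isDefEq.respectTransparency.types false

noncomputable section

universe u

open CategoryTheory CategoryTheory.Limits MonoidalCategory CartesianMonoidalCategory AlgebraicGeometry
open FibCat FibLib AlgSp AlgSpLib AlgStLib

namespace BDiagSmLib

theorem isLocalOnBase_fppf_surjective (S : Scheme.{u}) :
    IsLocalOnBase IsFppfCover (IsSurjectiveMor : MorphismProperty (Sp S)) := by
  intro _ Y Yi g hY hYi hτ X f hX Xi p q hXi sq
  refine ⟨fun h i => good_surjective.bc hX hY (hXi i) (hYi i) _ _ _ _ (sq i) h, fun h y => ?_⟩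
  obtain ⟨i, y', rfl⟩ := hτ.2 y
  obtain ⟨x, rfl⟩ := h i y'
  exact ⟨Points.map (q i) x, by rw [← Points.map_comp, ← Points.map_comp, (sq i).w]⟩

/-- A group with a resolution by smooth groups gives a smooth atlas of its classifying stack. -/
theorem exists_atlas {S : Scheme.{u}} {G : Over S} [GrpObj G] [IsAffineHom G.hom] [Flat G.hom]
    [LocallyOfFinitePresentation G.hom] {n m : ℕ} (a : AlgGrp.Action G (Red.DS S (Fin n → ℤ)))
    (p : Red.DS S (Fin n → ℤ) ⟶ Red.DS S (Fin m → ℤ))
    (hcart : IsPullback a.act (snd G (Red.DS S (Fin n → ℤ))) p p)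
    (hp : Flat p.left ∧ Surjective p.left ∧ LocallyOfFinitePresentation p.left) :
    ∃ x : overCat (Red.DS S (Fin m → ℤ)) ⥤ᵇ AlgSt.BG Scheme.fppfPrecoverage G,
      AlgSt.RepByAlgSpWith (LocP @Smooth) x ∧ AlgSt.RepByAlgSpWith IsSurjectiveMor x := by
  haveI : IsFibGrpd (AlgSt.BG Scheme.fppfPrecoverage G).p := QuotTransLib.isFibGrpd (aX := AlgSt.trivAction G)
  haveI := hp.1
  haveI := hp.2.1
  haveI := hp.2.2
  let A : AlgSt.QuotObj Scheme.fppfPrecoverage G (AlgSt.trivAction G) :=
    { base := Red.DS S (Fin m → ℤ)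
      P := Red.DS S (Fin n → ℤ)
      act := a
      π := p
      cart := hcart
      loc := by
        refine ⟨Presieve.singleton p.left, Scheme.Hom.singleton_mem_fppfPrecoverage p.left, ?_⟩
        rintro S' f ⟨⟩
        exact ⟨𝟙 _, Category.id_comp _⟩
      φ := toUnit _
      eqv := toUnit_unique _ _ }
  let x : overCat (Red.DS S (Fin m → ℤ)) ⥤ᵇ AlgSt.BG Scheme.fppfPrecoverage G :=
    ofPoint (𝒳 := AlgSt.BG Scheme.fppfPrecoverage G) (U := Red.DS S (Fin m → ℤ)) ⟨A, rfl⟩
  let T' : Over S := Red.DS S (Fin m → ℤ)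
  let u' := BasedFunctor.comp (AlgSt.toOverCat T') x
  let A' := u'.obj (QuotStLib.one (T := T'))
  -- the torsor of the atlas
  let φ : A' ⟶ A :=
    CategoryTheory.Functor.IsPreFibered.pullbackMap (p := (AlgSt.BG Scheme.fppfPrecoverage G).p) (a := A) (S := T') rfl (𝟙 T')
  haveI hφ : (AlgSt.BG Scheme.fppfPrecoverage G).p.IsHomLift (𝟙 T') φ :=
    inferInstanceAs ((AlgSt.BG Scheme.fppfPrecoverage G).p.IsHomLift (𝟙 T')
      (CategoryTheory.Functor.IsPreFibered.pullbackMap (p := (AlgSt.BG Scheme.fppfPrecoverage G).p) (a := A) (S := T') rfl (𝟙 T')))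
  haveI : IsIso φ.base := by
    have e : φ.base = _ := IsHomLift.fac' (AlgSt.BG Scheme.fppfPrecoverage G).p (𝟙 T') φ
    rw [e]; infer_instance
  haveI : IsIso φ.top := φ.cart.isIso_fst_of_isIso
  haveI hsm : Smooth A'.P.hom := by
    haveI := Groth.Agent.TorusLift.smooth_DS S n
    haveI : IsIso φ.top.left := inferInstanceAs (IsIso ((Over.forget S).map φ.top))
    rw [← Over.w φ.top]
    exact (MorphismProperty.cancel_left_of_respectsIso @Smooth _ _).2 inferInstance
  have hsur : Surjective (toUnit A'.P).left := by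
    refine ⟨fun s => ?_⟩
    let t : 𝟙_ (Over S) ⟶ A'.P := (MonObj.one (X := Red.DS S (Fin n → ℤ))) ≫ inv φ.top
    have ht : t.left ≫ (toUnit A'.P).left = 𝟙 _ := by
      rw [← Over.comp_left, toUnit_unique (t ≫ toUnit _) (𝟙 _)]; rfl
    exact ⟨t.left s, congrArg (fun h => h s) ht⟩
  have hsm' : Smooth (toUnit A'.P).left := by
    have e : (toUnit A'.P).left = A'.P.hom := by
      have := Over.w (toUnit A'.P)
      simpa using this
    rw [e]; exact hsm
  -- the fibre product with the canonical map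
  let qm := QuotStLib.qm Scheme.fppfPrecoverage (AlgSt.trivAction G)
  let w : AlgSt.ofSp ((yon S).obj (𝟙_ (Over S))) ⥤ᵇ AlgSt.BG Scheme.fppfPrecoverage G :=
    BasedFunctor.comp (AlgSt.toOverCat (𝟙_ (Over S))) qm
  obtain ⟨e₁, he₁, -⟩ := QuotStLib.along_qm u'
  let M : fp qm u' ⥤ᵇ fp w x :=
    fpMap (a := AlgSt.ofOverCat (𝟙_ (Over S))) (b := AlgSt.toOverCat T') (c := BasedFunctor.id _)
      (F := w) (G := x) (F' := qm) (G' := u') (Iso.refl _) (Iso.refl _)
  haveI := full_id (AlgSt.BG Scheme.fppfPrecoverage G)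
  haveI := faithful_id (AlgSt.BG Scheme.fppfPrecoverage G)
  let e := BasedFunctor.comp (BasedFunctor.comp e₁ (fpSwap u' qm)) M
  have he : IsEquivOver e :=
    isEquivOver_comp (isEquivOver_comp he₁ (isEquivOver_fpSwap u' qm))
      (isEquivOver_fpMap _ _ (isEquivOver_ofOverCat _) (isEquivOver_toOverCat _))
  have hiso : Nonempty (BasedFunctor.comp e (fpFst w x) ≅ AlgSt.ofSpMap ((yon S).map (toUnit A'.P))) :=
    nonempty_iso_of_sec fun b => ULift.ext _ _ (toUnit_unique _ _)
  have hΔ := QuotTransLib.repByAlgSp1_diag_quotSt (G := G) (AlgSt.trivAction G)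
  have hf : AlgSt.RepByAlgSp1 x := repByAlgSp1_diag_iff.mp hΔ _ x
  have hw₁ : AlgSt.RepByAlgSpWith (LocP @Flat) w :=
    repByAlgSpWith_toOverCat_comp (QuotTransLib.flat_qm (G := G) (AlgSt.trivAction G))
  have hw₂ : AlgSt.RepByAlgSpWith (LocP @LocallyOfFinitePresentation) w :=
    repByAlgSpWith_toOverCat_comp (QuotTransLib.lfp_qm (G := G) (AlgSt.trivAction G))
  have hw₃ : AlgSt.RepByAlgSpWith IsSurjectiveMor w :=
    repByAlgSpWith_toOverCat_comp (QuotStLib.repByAlgSpWith_qm_surjective (G := G) (AlgSt.trivAction G))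
  refine ⟨x, ?_, ?_⟩
  · exact (repByAlgSpWith_iff_cover good_smooth.bc
      (isLocalOnBase_fppf_of_fpqc (isLocalOnBase_fpqc_locP_of_descendsAlong S @Smooth)) hf
      ⟨_, IsAlgSpace.yon_obj (𝟙_ (Over S))⟩ hw₁ hw₂ hw₃).mpr
      ⟨⟨_, IsAlgSpace.yon_obj A'.P⟩, ObjectProperty.homMk ((yon S).map (toUnit A'.P)), e, he, hiso,
        (locP_yon_map_iff _).2 hsm'⟩
  · haveI := hsur
    exact (repByAlgSpWith_iff_cover good_surjective.bc (isLocalOnBase_fppf_surjective S) hf
      ⟨_, IsAlgSpace.yon_obj (𝟙_ (Over S))⟩ hw₁ hw₂ hw₃).mpr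
      ⟨⟨_, IsAlgSpace.yon_obj A'.P⟩, ObjectProperty.homMk ((yon S).map (toUnit A'.P)), e, he, hiso,
        isSurjectiveMor_yon_map' _⟩

/-- The classifying stack of a finite diagonalisable group over a field is smooth. -/
theorem locQ_smooth_BG (k : Type u) [Field k] (M : Type) [AddCommGroup M] [Finite M] :
    AlgSt.LocQ (LocP @Smooth) (toSelf (AlgSt.BG Scheme.fppfPrecoverage (Red.diag k M))) := by
  let S : Scheme.{u} := Spec (CommRingCat.of k)
  obtain ⟨w, hw, -⟩ := Groth.Agent.TorusField.exists_DS_iso k M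
  let G : Over S := Red.diag k M
  let w' : G ≅ Red.DS S M := w
  haveI : IsMonHom w'.hom := hw
  obtain ⟨n, m, c, ψ, hc, hψ, hex⟩ := exists_resolution M
  haveI := KummerExactLib.isMonHom_DSmap (S := S) c
  haveI : IsMonHom (w'.hom ≫ Red.DSmap S c) := inferInstance
  haveI : IsAffine G.left := isAffine_Spec _
  haveI : IsAffineHom G.hom := isAffineHom_of_isAffine _
  have hG : G.hom = Spec.map (CommRingCat.ofHom (algebraMap k (MonoidAlgebra k (Multiplicative M)))) := rfl
  haveI : Flat G.hom := by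
    rw [hG, HasRingHomProperty.Spec_iff (P := @Flat)]
    exact (RingHom.flat_algebraMap_iff).2 inferInstance
  haveI : LocallyOfFinitePresentation G.hom := by
    rw [hG, HasRingHomProperty.Spec_iff (P := @LocallyOfFinitePresentation)]
    exact (RingHom.finitePresentation_algebraMap).2 (Algebra.FinitePresentation.of_finiteType.1 inferInstance)
  obtain ⟨x, hx, hxs⟩ := exists_atlas (act (w'.hom ≫ Red.DSmap S c)) (Red.DSmap S ψ)
    (isPullback_act w' c ψ hc hex) (props_DSmap ψ hψ)
  let T' : Over S := Red.DS S (Fin m → ℤ)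
  let V : Over S := Over.mk (𝟙 S)
  let h : T' ⟶ V := Over.homMk T'.hom (Category.comp_id _)
  refine ⟨T', V, x, toSelf (overCat V), h, compToSelfIso x ≪≫ (compToSelfIso (AlgSt.overMap h)).symm, hx, hxs, ?_, ?_⟩
  · refine (repByAlgSpWith_square_iff (f := toSelf (overCat V)) (f' := AlgSt.overMap (𝟙 V))
      (a := BasedFunctor.id _) (b := toSelf (overCat V)) (isEquivOver_id _) WellNighLib.isEquivOver_toSelf_terminal
      (compToSelfIso (AlgSt.overMap (𝟙 V)) ≪≫ (compToSelfIso (BasedFunctor.id (overCat V))).symm) _).mpr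
      (repByAlgSpWith_overMap good_smooth.bc (𝟙 V) ?_)
    rw [CategoryTheory.Functor.map_id]
    exact AlgStLib.locP_smooth_id _
  · exact (locP_yon_map_iff h).2 (Groth.Agent.TorusLift.smooth_DS S m)

end BDiagSmLib
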