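import Groth.Agent.DSPtsLib.Basic
import Groth.Agent.KummerExactLib.Basic
import Groth.Agent.DSImgLib.Basic
import Groth.Agent.TorusLiftLib.Smooth
import Groth.Agent.TorusFieldLib.Scheme
import Groth.Agent.S12442
import Groth.Prelude.Def_AlgSt5

/-!
# Finite diagonalisable groups as kernels of maps of tori
-/

set_option autoImplicit false
set_option linter.all false
set_option backward.isDefEq.respectTransparency false
set_option backward.isDefEq.respectTransparency.types false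

noncomputable section

universe u

open CategoryTheory CategoryTheory.Limits MonoidalCategory CartesianMonoidalCategory AlgebraicGeometry
open scoped MonObj

namespace BDiagSmLib

open DSPtsLib

variable {S : Scheme.{u}} {M N L : Type} [AddCommGroup M] [AddCommGroup N] [AddCommGroup L]

theorem mul_comm' {T : Over S} (a b : T ⟶ Red.DS S N) : a * b = b * a := by
  obtain ⟨χ, rfl⟩ := (dsPt_bijective T).2 a
  obtain ⟨χ', rfl⟩ := (dsPt_bijective T).2 b
  rw [← dsPt_mul, ← dsPt_mul, _root_.mul_comm]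

/-- The kernel pair of a map of diagonalisable groups. -/
theorem exists_quot (c : N →+ M) (ψ : L →+ N) (hc : Function.Surjective c)
    (hex : ∀ n, c n = 0 ↔ ∃ l, ψ l = n) {T : Over S} (a b : T ⟶ Red.DS S N)
    (h : a ≫ Red.DSmap S ψ = b ≫ Red.DSmap S ψ) :
    ∃! z : T ⟶ Red.DS S M, (z ≫ Red.DSmap S c) * b = a := by
  obtain ⟨χa, rfl⟩ := (dsPt_bijective T).2 a
  obtain ⟨χb, rfl⟩ := (dsPt_bijective T).2 b
  rw [KummerExactLib.dsPt_DSmap, KummerExactLib.dsPt_DSmap] at h
  have hab := (dsPt_bijective T).1 h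
  let q : Multiplicative N →* (Γ(T.left, ⊤))ˣ := χa.toHomUnits * (χb.toHomUnits)⁻¹
  let c' : Multiplicative N →* Multiplicative M := c.toMultiplicative
  have hc' : Function.Surjective c' := fun m => by
    obtain ⟨n, hn⟩ := hc (Multiplicative.toAdd m)
    exact ⟨.ofAdd n, congrArg Multiplicative.ofAdd hn⟩
  have hker : c'.ker ≤ q.ker := fun m hm => by
    obtain ⟨l, hl⟩ := (hex (Multiplicative.toAdd m)).1 (congrArg Multiplicative.toAdd (MonoidHom.mem_ker.1 hm))
    have e : χa m = χb m := by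
      have := DFunLike.congr_fun hab (.ofAdd l)
      have hm2 : Multiplicative.ofAdd (ψ l) = m := by rw [hl]; rfl
      rw [← hm2]
      exact this
    have e' : χa.toHomUnits m = χb.toHomUnits m := Units.ext e
    rw [MonoidHom.mem_ker]
    show χa.toHomUnits m * (χb.toHomUnits m)⁻¹ = 1
    rw [e', mul_inv_cancel]
  let z₀ : Multiplicative M →* (Γ(T.left, ⊤))ˣ := MonoidHom.liftOfSurjective c' hc' ⟨q, hker⟩
  have hz₀ : z₀.comp c' = q := MonoidHom.liftOfRightInverse_comp _ _ _ _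
  refine ⟨dsPt ((Units.coeHom _).comp z₀), ?_, fun z hz => ?_⟩
  · beta_reduce
    rw [KummerExactLib.dsPt_DSmap, ← dsPt_mul]
    refine congrArg dsPt (MonoidHom.ext fun m => ?_)
    show ((z₀.comp c' m : (Γ(T.left, ⊤))ˣ) : Γ(T.left, ⊤)) * χb m = χa m
    rw [hz₀]
    show ((χa.toHomUnits m * (χb.toHomUnits m)⁻¹ : (Γ(T.left, ⊤))ˣ) : Γ(T.left, ⊤)) *
      (χb.toHomUnits m : Γ(T.left, ⊤)) = χa m
    rw [← Units.val_mul, inv_mul_cancel_right]
    rfl
  · obtain ⟨χz, rfl⟩ := (dsPt_bijective T).2 z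
    rw [KummerExactLib.dsPt_DSmap, ← dsPt_mul] at hz
    have hz' := (dsPt_bijective T).1 hz
    refine congrArg dsPt (MonoidHom.ext fun x => ?_)
    obtain ⟨k, rfl⟩ := hc' x
    show χz (c' k) = ((z₀.comp c' k : (Γ(T.left, ⊤))ˣ) : Γ(T.left, ⊤))
    rw [hz₀]
    show χz (c' k) = (χa.toHomUnits k : Γ(T.left, ⊤)) * (((χb.toHomUnits k)⁻¹ : (Γ(T.left, ⊤))ˣ) : Γ(T.left, ⊤))
    rw [Units.eq_mul_inv_iff_mul_eq]
    exact DFunLike.congr_fun hz' k

/-- The translation action of a group mapping to a torus. -/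
def act {G : Over S} [GrpObj G] (i : G ⟶ Red.DS S N) [IsMonHom i] : AlgGrp.Action G (Red.DS S N) where
  act := (fst G (Red.DS S N) ≫ i) * snd G (Red.DS S N)
  one_act := by
    rw [MonObj.comp_mul, ← Category.assoc, whiskerRight_fst, whiskerRight_snd, Category.assoc,
      IsMonHom.one_hom i]
    rw [MonObj.one_eq_one, MonObj.comp_one, _root_.one_mul, leftUnitor_hom]
  mul_act := by
    rw [MonObj.comp_mul, MonObj.comp_mul, ← Category.assoc, whiskerRight_fst, whiskerRight_snd, ← Category.assoc,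
      whiskerLeft_fst, whiskerLeft_snd, Category.assoc, IsMonHom.mul_hom i]
    simp only [MonObj.mul_eq_mul, MonObj.comp_mul, Category.assoc, tensorHom_fst, tensorHom_snd,
      associator_hom_fst, associator_hom_snd_fst, associator_hom_snd_snd, associator_hom_fst_assoc,
      associator_hom_snd_fst_assoc, associator_hom_snd_snd_assoc]
    rw [_root_.mul_assoc]

theorem lift_act {G : Over S} [GrpObj G] (i : G ⟶ Red.DS S N) [IsMonHom i] {T : Over S} (g : T ⟶ G)
    (p : T ⟶ Red.DS S N) : lift g p ≫ (act i).act = (g ≫ i) * p := by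
  show lift g p ≫ ((fst _ _ ≫ i) * snd _ _) = _
  rw [MonObj.comp_mul, lift_fst_assoc, lift_snd]

theorem isPullback_act {G : Over S} [GrpObj G] (w : G ≅ Red.DS S M) [IsMonHom w.hom] (c : N →+ M) (ψ : L →+ N)
    (hc : Function.Surjective c) (hex : ∀ n, c n = 0 ↔ ∃ l, ψ l = n) [IsMonHom (w.hom ≫ Red.DSmap S c)] :
    IsPullback (act (w.hom ≫ Red.DSmap S c)).act (snd G (Red.DS S N)) (Red.DSmap S ψ) (Red.DSmap S ψ) := by
  have hw : (act (w.hom ≫ Red.DSmap S c)).act ≫ Red.DSmap S ψ = snd G (Red.DS S N) ≫ Red.DSmap S ψ := by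
    show ((fst _ _ ≫ w.hom ≫ Red.DSmap S c) * snd _ _) ≫ Red.DSmap S ψ = _
    rw [KummerExactLib.mul_DSmap, Category.assoc, Category.assoc]
    have h0 : ∀ {T : Over S} (z : T ⟶ Red.DS S M), z ≫ Red.DSmap S c ≫ Red.DSmap S ψ = 1 := fun {T} z => by
      obtain ⟨χ, rfl⟩ := (dsPt_bijective T).2 z
      rw [← Category.assoc, KummerExactLib.dsPt_DSmap, KummerExactLib.dsPt_DSmap, ← dsPt_one]
      refine congrArg dsPt (MonoidHom.ext fun l => ?_)
      show χ (Multiplicative.ofAdd (c (ψ (Multiplicative.toAdd l)))) = 1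
      rw [(hex _).2 ⟨_, rfl⟩]
      exact map_one χ
    rw [← Category.assoc (fst G (Red.DS S N)) w.hom, h0, _root_.one_mul]
  refine IsPullback.of_isLimit' ⟨hw⟩ (PullbackCone.isLimitAux' _ fun s => ?_)
  let z := (exists_quot c ψ hc hex s.fst s.snd s.condition).choose
  have hz : (z ≫ Red.DSmap S c) * s.snd = s.fst := (exists_quot c ψ hc hex s.fst s.snd s.condition).choose_spec.1
  refine ⟨lift (z ≫ w.inv) s.snd, ?_, lift_snd _ _, fun {m} h1 h2 => ?_⟩
  · show lift (z ≫ w.inv) s.snd ≫ (act (w.hom ≫ Red.DSmap S c)).act = _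
    rw [lift_act, Category.assoc, Iso.inv_hom_id_assoc, hz]
  · have h2' : m ≫ snd G (Red.DS S N) = s.snd := h2
    have hm : m = lift (m ≫ fst _ _) (m ≫ snd _ _) := by simp
    have h1' : m ≫ (act (w.hom ≫ Red.DSmap S c)).act = s.fst := h1
    rw [hm, lift_act, h2', ← Category.assoc] at h1'
    have := (exists_quot c ψ hc hex s.fst s.snd s.condition).choose_spec.2 _ h1'
    rw [hm, h2']
    congr 1
    exact (Iso.eq_comp_inv w).2 this

theorem exists_resolution (M : Type) [AddCommGroup M] [Finite M] :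
    ∃ (n m : ℕ) (c : (Fin n → ℤ) →+ M) (ψ : (Fin m → ℤ) →+ (Fin n → ℤ)),
      Function.Surjective c ∧ Function.Injective ψ ∧ ∀ x, c x = 0 ↔ ∃ l, ψ l = x := by
  obtain ⟨n, c, hc⟩ := Module.Finite.exists_fin' ℤ M
  obtain ⟨m, b⟩ := Submodule.basisOfPid (Pi.basisFun ℤ (Fin n)) (LinearMap.ker c)
  refine ⟨n, m, c.toAddMonoidHom, ((LinearMap.ker c).subtype.comp b.equivFun.symm.toLinearMap).toAddMonoidHom,
    hc, Subtype.val_injective.comp b.equivFun.symm.injective, fun x => ⟨fun h => ?_, ?_⟩⟩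
  · obtain ⟨l, hl⟩ := b.equivFun.symm.surjective ⟨x, h⟩
    exact ⟨l, congrArg Subtype.val hl⟩
  · rintro ⟨l, rfl⟩
    exact (b.equivFun.symm l).2

theorem props_DSmap {n m : ℕ} (ψ : (Fin m → ℤ) →+ (Fin n → ℤ)) (hψ : Function.Injective ψ) :
    Flat (Red.DSmap S ψ).left ∧ Surjective (Red.DSmap S ψ).left ∧
      LocallyOfFinitePresentation (Red.DSmap S ψ).left := by
  obtain ⟨h1, h2⟩ := Groth.Agent.DSImg.flat_surjective_DSmap (S := S) hψ
  haveI := Groth.Agent.TorusLift.smooth_DS S n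
  haveI := Groth.Agent.TorusLift.smooth_DS S m
  haveI : LocallyOfFinitePresentation ((Red.DSmap S ψ).left ≫ (Red.DS S (Fin m → ℤ)).hom) := by
    rw [Over.w]; infer_instance
  exact ⟨h1, h2, Groth.Agent.S12442.lfp_of_comp_lft (Red.DSmap S ψ).left (Red.DS S (Fin m → ℤ)).hom⟩

end BDiagSmLib
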